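import Mathlib
import Groth.Agent.Lib.FibreFlat.RegularFlat

/-!
# A section of a smooth algebra is cut out by a regular sequence
-/

universe u

open RingTheory.Sequence

namespace GrothLib.SmoothSection

variable {R B : Type u} [CommRing R] [CommRing B] [Algebra R B]

/-- The kernel of a section of a formally unramified algebra is idempotent. -/
theorem isIdempotentElem_ker [Algebra.FormallyUnramified R B] (σ : B →ₐ[R] R) :
    IsIdempotentElem (RingHom.ker σ) := by
  refine le_antisymm Ideal.mul_le_left fun x hx => ?_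
  let I := RingHom.ker σ
  let J : Ideal (B ⧸ I * I) := I.map (Ideal.Quotient.mk (I * I))
  have hJ : J ^ 2 = ⊥ := by
    rw [sq, ← Ideal.map_mul, Ideal.map_quotient_self]
  have h := Algebra.FormallyUnramified.comp_injective (R := R) (A := B) J hJ
    (a₁ := Ideal.Quotient.mkₐ R (I * I))
    (a₂ := ((Ideal.Quotient.mkₐ R (I * I)).comp (Algebra.ofId R B)).comp σ) (by
      refine AlgHom.ext fun b => ?_
      simp only [AlgHom.comp_apply, Ideal.Quotient.mkₐ_eq_mk]
      refine Ideal.Quotient.eq.2 ?_
      rw [← map_sub]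
      refine Ideal.mem_map_of_mem _ ?_
      show σ _ = 0
      simp [Algebra.ofId_apply])
  have := DFunLike.congr_fun h x
  simp only [AlgHom.comp_apply, Ideal.Quotient.mkₐ_eq_mk, show σ x = 0 from hx, map_zero] at this
  exact Ideal.Quotient.eq_zero_iff_mem.1 this

/-- The kernel of a retraction of a finitely generated algebra is finitely generated. -/
theorem fg_ker [Algebra.FiniteType R B] (σ : B →ₐ[R] R) : (RingHom.ker σ).FG := by
  classical
  obtain ⟨s, hs⟩ := Algebra.FiniteType.out (R := R) (A := B)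
  refine ⟨s.image fun b => b - algebraMap R B (σ b), le_antisymm ?_ fun x hx => ?_⟩
  · rw [Submodule.span_le]
    intro y hy
    obtain ⟨b, -, rfl⟩ := Finset.mem_image.1 hy
    show σ _ = 0
    simp
  · have key : ∀ b : B, b - algebraMap R B (σ b) ∈
        Submodule.span B ((s.image fun b => b - algebraMap R B (σ b) : Finset B) : Set B) := by
      intro b
      have hb : b ∈ Algebra.adjoin R (s : Set B) := hs ▸ Algebra.mem_top
      induction hb using Algebra.adjoin_induction with
      | mem y hy => exact Submodule.subset_span (Finset.mem_image_of_mem _ hy)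
      | algebraMap r => simp
      | add a b _ _ ha hb =>
        rw [map_add, map_add, add_sub_add_comm]
        exact add_mem ha hb
      | mul a b _ _ ha hb =>
        have : a * b - algebraMap R B (σ (a * b)) =
            b • (a - algebraMap R B (σ a)) + algebraMap R B (σ a) • (b - algebraMap R B (σ b)) := by
          rw [map_mul, map_mul, smul_eq_mul, smul_eq_mul]
          ring
        rw [this]
        exact add_mem (Submodule.smul_mem _ _ ha) (Submodule.smul_mem _ _ hb)
    have := key x
    rwa [show σ x = 0 from hx, map_zero, sub_zero] at this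

/-- A section of a standard smooth algebra is cut out by a regular sequence near each of its points. -/
theorem exists_coords (n : ℕ) [Algebra.IsStandardSmoothOfRelativeDimension n R B] (σ : B →ₐ[R] R)
    (q : Ideal B) [q.IsPrime] (hq : RingHom.ker σ ≤ q) :
    ∃ h ∉ q, ∃ Y : Fin n → B, IsWeaklyRegular B (List.ofFn Y) ∧ (∀ i, σ (Y i) = 0) ∧
      ∀ x, σ x = 0 → h * x ∈ Ideal.span (Set.range Y) := by
  classical
  obtain ⟨φ, hφ⟩ := Algebra.IsStandardSmoothOfRelativeDimension.exists_etale_mvPolynomial n R B
  let Y : Fin n → B := fun i => φ (MvPolynomial.X i) - algebraMap R B (σ (φ (MvPolynomial.X i)))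
  let tr : MvPolynomial (Fin n) R →ₐ[R] MvPolynomial (Fin n) R :=
    MvPolynomial.aeval fun i => MvPolynomial.X i - MvPolynomial.C (σ (φ (MvPolynomial.X i)))
  let tr' : MvPolynomial (Fin n) R →ₐ[R] MvPolynomial (Fin n) R :=
    MvPolynomial.aeval fun i => MvPolynomial.X i + MvPolynomial.C (σ (φ (MvPolynomial.X i)))
  let e : MvPolynomial (Fin n) R ≃ₐ[R] MvPolynomial (Fin n) R := AlgEquiv.ofAlgHom tr tr'
    (MvPolynomial.algHom_ext fun i => by simp [tr, tr'])
    (MvPolynomial.algHom_ext fun i => by simp [tr, tr'])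
  let ψ : MvPolynomial (Fin n) R →ₐ[R] B := φ.comp e.toAlgHom
  have hψX : ∀ i, ψ (MvPolynomial.X i) = Y i := fun i => by
    simp [ψ, e, tr, Y, ← MvPolynomial.algebraMap_eq]
  let _ : Algebra (MvPolynomial (Fin n) R) B := ψ.toRingHom.toAlgebra
  have : IsScalarTower R (MvPolynomial (Fin n) R) B := IsScalarTower.of_algebraMap_eq' ψ.comp_algebraMap.symm
  have hetψ : ψ.toRingHom.Etale :=
    RingHom.Etale.stableUnderComposition _ _ (RingHom.Etale.of_bijective (f := e.toAlgHom.toRingHom) e.bijective) hφ
  have het : Algebra.Etale (MvPolynomial (Fin n) R) B := hetψ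
  have hreg : IsWeaklyRegular B (List.ofFn Y) := by
    have h := (GrothLib.FibreFlat.isWeaklyRegular_X R n).of_flat (S := B)
    rw [List.map_ofFn] at h
    convert h using 2
    exact funext fun i => (hψX i).symm
  have hYσ : ∀ i, σ (Y i) = 0 := fun i => by simp [Y]
  let J : Ideal B := Ideal.span (Set.range Y)
  have hJσ : J ≤ RingHom.ker σ := Ideal.span_le.2 (by rintro _ ⟨i, rfl⟩; exact hYσ i)
  -- the kernel modulo the coordinates is idempotent
  have hfu : Algebra.FormallyUnramified R (B ⧸ J) := by
    rw [Algebra.FormallyUnramified.iff_comp_injective]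
    intro A _ _ I hI a₁ a₂ h12
    refine Ideal.Quotient.algHom_ext R ?_
    let _ : Algebra (MvPolynomial (Fin n) R) A := ((a₁.comp (Ideal.Quotient.mkₐ R J)).comp ψ).toRingHom.toAlgebra
    have hX : (a₂.comp (Ideal.Quotient.mkₐ R J)).comp ψ = (a₁.comp (Ideal.Quotient.mkₐ R J)).comp ψ := by
      refine MvPolynomial.algHom_ext fun i => ?_
      simp only [AlgHom.comp_apply, hψX, Ideal.Quotient.mkₐ_eq_mk]
      rw [show Ideal.Quotient.mk J (Y i) = 0 from
        Ideal.Quotient.eq_zero_iff_mem.2 (Ideal.subset_span ⟨i, rfl⟩), map_zero, map_zero]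
    let A₁ : B →ₐ[MvPolynomial (Fin n) R] A :=
      { (a₁.comp (Ideal.Quotient.mkₐ R J)).toRingHom with commutes' := fun _ => rfl }
    let A₂ : B →ₐ[MvPolynomial (Fin n) R] A :=
      { (a₂.comp (Ideal.Quotient.mkₐ R J)).toRingHom with commutes' := fun p => DFunLike.congr_fun hX p }
    have heq : A₁ = A₂ := Algebra.FormallyUnramified.comp_injective I hI
      (AlgHom.ext fun b => DFunLike.congr_fun h12 (Ideal.Quotient.mk J b))
    exact AlgHom.ext fun b => DFunLike.congr_fun heq b
  have : Algebra.IsStandardSmooth R B := Algebra.IsStandardSmoothOfRelativeDimension.isStandardSmooth n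
  have : Algebra.FiniteType R (B ⧸ J) :=
    Algebra.FiniteType.of_surjective (Ideal.Quotient.mkₐ R J) Ideal.Quotient.mk_surjective
  let σ' : B ⧸ J →ₐ[R] R := Ideal.Quotient.liftₐ J σ hJσ
  have hidem := isIdempotentElem_ker σ'
  obtain ⟨e', he', hker⟩ := (Ideal.isIdempotentElem_iff_of_fg _ (fg_ker σ')).1 hidem
  obtain ⟨a, rfl⟩ := Ideal.Quotient.mk_surjective e'
  have haσ : σ a = 0 := by
    have : Ideal.Quotient.mk J a ∈ RingHom.ker σ' := hker ▸ Submodule.mem_span_singleton_self _
    exact this
  refine ⟨1 - a, fun h => (Ideal.IsPrime.ne_top' (I := q)) ((Ideal.eq_top_iff_one _).2 ?_), ?_⟩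
  · simpa using q.add_mem h (hq haσ)
  refine ⟨Y, hreg, hYσ, fun x hx => ?_⟩
  have hx' : Ideal.Quotient.mk J x ∈ RingHom.ker σ' := hx
  rw [hker] at hx'
  obtain ⟨c, hc⟩ := Submodule.mem_span_singleton.1 hx'
  change (1 - a) * x ∈ J
  rw [← Ideal.Quotient.eq_zero_iff_mem, map_mul, map_sub, map_one, ← hc, smul_eq_mul]
  linear_combination (norm := ring_nf) (-c) * he'.eq

end GrothLib.SmoothSection
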