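import Groth.Agent.Lib.SmoothSection.Quotient
import Groth.Agent.Lib.RegSeqLoc.Immersion
import Groth.Agent.Lib.BlowUp.EffCartier

/-!
# Closed subschemes of smooth schemes which map to regularly immersed subschemes
-/

universe u

open CategoryTheory AlgebraicGeometry RingTheory.Sequence TopologicalSpace

namespace GrothLib.SmoothSection

variable {X Y S : Scheme.{u}}

/-- Weakly regular sequences are preserved by flat ring maps. -/
theorem _root_.RingTheory.Sequence.IsWeaklyRegular.of_flat_map {A B : Type u} [CommRing A] [CommRing B]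
    {rs : List A} (h : IsWeaklyRegular A rs) (φ : A →+* B) (hφ : φ.Flat) : IsWeaklyRegular B (rs.map φ) := by
  algebraize [φ]
  exact h.of_flat

/-- Near a point of `Y`, the ideal of `Y` in a smooth `S`-scheme `X` is generated by a regular sequence
if the ideal of `Y` in `S` is. -/
theorem exists_chart_regular (n : ℕ) (p : X ⟶ S) (i : Y ⟶ X) (j : Y ⟶ S) [IsClosedImmersion i]
    [IsClosedImmersion j] (h : i ≫ p = j) (z : Y) {U₀ : S.Opens} (hU₀ : IsAffineOpen U₀) {V₀ : X.Opens}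
    (hV₀ : IsAffineOpen V₀) (hx : i z ∈ V₀) (e : V₀ ≤ p ⁻¹ᵁ U₀)
    (hsm : (p.appLE U₀ V₀ e).hom.IsStandardSmoothOfRelativeDimension n)
    (U : S.affineOpens) (hz : j z ∈ U.1) (a : List Γ(S, U.1)) (ha : IsWeaklyRegular Γ(S, U.1) a)
    (hI : j.ker.ideal U = Ideal.ofList a) :
    ∃ V : X.affineOpens, i z ∈ V.1 ∧ ∃ rs : List Γ(X, V.1), rs.length = a.length + n ∧
      IsRegular Γ(X, V.1) rs ∧ i.ker.ideal V = Ideal.ofList rs := by
  classical
  subst h
  -- the chart
  obtain ⟨O, hO, hOV⟩ := (i ≫ p).isClosedEmbedding.isInducing.isOpen_iff.1 (i ⁻¹ᵁ V₀).2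
  have hzO : (i ≫ p) z ∈ O := by
    have : z ∈ (i ≫ p) ⁻¹' O := by rw [hOV]; exact hx
    exact this
  obtain ⟨g, hgW, hzg⟩ := hU₀.exists_basicOpen_le
    (⟨(i ≫ p) z, ⟨hz, hzO⟩⟩ : (U.1 ⊓ ⟨O, hO⟩ : S.Opens)) (e hx)
  let U' := S.basicOpen g
  let V' := X.basicOpen (p.appLE U₀ V₀ e g)
  have hV'eq : V' = V₀ ⊓ p ⁻¹ᵁ U' := Scheme.basicOpen_appLE p V₀ U₀ e g
  have hU' : IsAffineOpen U' := hU₀.basicOpen g
  have hV' : IsAffineOpen V' := hV₀.basicOpen _
  have e' : V' ≤ p ⁻¹ᵁ U' := hV'eq.le.trans inf_le_right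
  have hUU : U' ≤ U.1 := fun y hy => (hgW hy).1
  have hpre : i ⁻¹ᵁ V' = (i ≫ p) ⁻¹ᵁ U' := by
    rw [hV'eq]
    refine le_antisymm (fun y hy => hy.2) fun y hy => ⟨?_, hy⟩
    have : y ∈ (i ≫ p) ⁻¹' O := (hgW hy).2
    rw [hOV] at this
    exact this
  have hzV' : i z ∈ V' := by
    rw [hV'eq]; exact ⟨hx, hzg⟩
  -- the rings
  let A := Γ(S, U')
  let B := Γ(X, V')
  have hsm' : (p.appLE U' V' e').hom.IsStandardSmoothOfRelativeDimension n := by
    let _ : Algebra Γ(S, U₀) A := (S.presheaf.map (homOfLE (S.basicOpen_le g)).op).hom.toAlgebra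
    let _ : Algebra Γ(X, V₀) B := (X.presheaf.map (homOfLE (X.basicOpen_le (p.appLE U₀ V₀ e g))).op).hom.toAlgebra
    have : IsLocalization.Away g A := hU₀.isLocalization_basicOpen g
    have : IsLocalization.Away ((p.appLE U₀ V₀ e).hom g) B := hV₀.isLocalization_basicOpen _
    have h1 := (RingHom.isStandardSmoothOfRelativeDimension_localizationPreserves n).away
      (f := (p.appLE U₀ V₀ e).hom) g (R' := A) (S' := B) hsm
    convert h1 using 1
    refine IsLocalization.ringHom_ext (Submonoid.powers g) (RingHom.ext fun r => ?_)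
    rw [IsLocalization.Away.map, RingHom.comp_apply, RingHom.comp_apply, IsLocalization.map_eq]
    show (S.presheaf.map (homOfLE (S.basicOpen_le g)).op ≫ p.appLE U' V' e') r =
      (p.appLE U₀ V₀ e ≫ X.presheaf.map (homOfLE (X.basicOpen_le _)).op) r
    rw [Scheme.Hom.map_appLE, Scheme.Hom.appLE_map]
  let π : A →+* Γ(Y, (i ≫ p) ⁻¹ᵁ U') := ((i ≫ p).app U').hom
  let τ : B →+* Γ(Y, (i ≫ p) ⁻¹ᵁ U') := (i.appLE V' ((i ≫ p) ⁻¹ᵁ U') hpre.ge).hom
  have hkerπ : RingHom.ker π = Ideal.ofList (a.map (S.presheaf.map (homOfLE hUU).op).hom) := by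
    rw [← Ideal.map_ofList, ← hI]
    refine Eq.trans ?_ (Scheme.IdealSheafData.map_ideal (i ≫ p).ker (U := ⟨U', hU'⟩) (V := U) hUU).symm
    rw [Scheme.Hom.ker_apply]
  have hkerτ : RingHom.ker τ = i.ker.ideal ⟨V', hV'⟩ := by
    rw [Scheme.Hom.ker_apply]
    refine Ideal.ext fun b => ?_
    rw [RingHom.mem_ker, RingHom.mem_ker]
    show Y.presheaf.map (homOfLE hpre.ge).op (i.app V' b) = 0 ↔ i.app V' b = 0
    constructor
    · intro hb
      have := congrArg (Y.presheaf.map (homOfLE hpre.le).op) hb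
      rw [map_zero, ← CommRingCat.comp_apply, ← Functor.map_comp, ← op_comp] at this
      simpa using this
    · intro hb; rw [hb, map_zero]
  have hτ : τ.comp (p.appLE U' V' e').hom = π := by
    show (p.appLE U' V' e' ≫ i.appLE V' _ hpre.ge).hom = _
    rw [Scheme.Hom.appLE_comp_appLE, ← Scheme.Hom.app_eq_appLE]
  let _ : Algebra A B := (p.appLE U' V' e').hom.toAlgebra
  have : Algebra.IsStandardSmoothOfRelativeDimension n A B := hsm'
  let q : Ideal B := (IsLocalRing.maximalIdeal (X.presheaf.stalk (i z))).comap (X.presheaf.germ V' (i z) hzV').hom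
  have : q.IsPrime := Ideal.comap_isPrime _ _
  have hq : RingHom.ker τ ≤ q := by
    rw [hkerτ, ← Ideal.map_le_iff_le_comap, ← GrothLib.RegSeqLoc.ker_stalkMap i z ⟨V', hV'⟩ hzV']
    exact IsLocalRing.le_maximalIdeal (RingHom.ker_ne_top _)
  obtain ⟨t, ht, rs, hlen, hreg, hle, hge⟩ := exists_coords_quotient n _
    (ha.of_flat_map (S.presheaf.map (homOfLE hUU).op).hom
      (GrothLib.BlowUp.flat_res (U := U) (V := ⟨U', hU'⟩) hUU)) π
    ((i ≫ p).app_surjective U' hU') hkerπ τ hτ q hq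
  have hzt : i z ∈ X.basicOpen t := (Scheme.mem_basicOpen _ t (i z) hzV').2
    (IsLocalRing.notMem_maximalIdeal.1 fun hm => ht hm)
  let res := (X.presheaf.map (homOfLE (X.basicOpen_le t)).op).hom
  refine ⟨⟨X.basicOpen t, hV'.basicOpen t⟩, hzt, rs.map res, by simpa using hlen, ?_⟩
  have hIV : i.ker.ideal ⟨X.basicOpen t, hV'.basicOpen t⟩ = Ideal.ofList (rs.map res) := by
    rw [← i.ker.map_ideal (U := ⟨X.basicOpen t, hV'.basicOpen t⟩) (V := ⟨V', hV'⟩) (X.basicOpen_le t),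
      ← hkerτ, ← Ideal.map_ofList]
    refine le_antisymm (Ideal.map_le_iff_le_comap.2 fun x hx => ?_) (Ideal.map_mono hle)
    have hu : IsUnit (res t) := RingedSpace.isUnit_res_basicOpen X.toRingedSpace t
    rw [Ideal.mem_comap]
    refine (Ideal.unit_mul_mem_iff_mem _ hu).1 ?_
    have := Ideal.mem_map_of_mem res (hge x hx)
    rwa [map_mul] at this
  refine ⟨⟨(hreg.of_flat_map res (GrothLib.BlowUp.flat_res (U := ⟨V', hV'⟩)
    (V := ⟨X.basicOpen t, hV'.basicOpen t⟩) (X.basicOpen_le t))), fun htop => ?_⟩, hIV⟩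
  rw [smul_eq_mul, Ideal.mul_top] at htop
  have h3 := GrothLib.RegSeqLoc.ker_stalkMap i z ⟨X.basicOpen t, hV'.basicOpen t⟩ hzt
  rw [hIV, ← htop, Ideal.map_top] at h3
  exact RingHom.ker_ne_top _ h3

end GrothLib.SmoothSection
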