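import Mathlib.AlgebraicGeometry.Morphisms.Smooth
import Mathlib.AlgebraicGeometry.Morphisms.Etale
import Mathlib.AlgebraicGeometry.ResidueField
import Mathlib.RingTheory.RingHom.StandardSmooth
import Mathlib.RingTheory.Etale.StandardEtale
import Mathlib.FieldTheory.PrimitiveElement
import Mathlib.RingTheory.Polynomial.ScaleRoots

/-!
Étale quasi-sections of smooth morphisms through points with finite separable residue extension.
-/

universe u

open CategoryTheory Limits AlgebraicGeometry TensorProduct Polynomial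

namespace GrothLib.SmoothSection

/-- A common denominator for finitely many elements of a field of fractions. -/
theorem exists_common_denominator {R k : Type*} [CommRing R] [Field k] (ρ : R →+* k)
    (hρ : ∀ c : k, ∃ a d : R, ρ d ≠ 0 ∧ c * ρ d = ρ a) (S : Finset k) :
    ∃ d : R, ρ d ≠ 0 ∧ ∀ c ∈ S, ∃ a : R, c * ρ d = ρ a := by
  classical
  induction S using Finset.induction_on with
  | empty => exact ⟨1, by simp, by simp⟩
  | insert c S hc ih =>
    obtain ⟨d, hd, hS⟩ := ih
    obtain ⟨a, e, he, hae⟩ := hρ c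
    refine ⟨d * e, by simp [hd, he], fun c' hc' => ?_⟩
    rcases Finset.mem_insert.mp hc' with rfl | hc'
    · exact ⟨a * d, by rw [map_mul, map_mul, ← hae]; ring⟩
    · obtain ⟨b, hb⟩ := hS c' hc'
      exact ⟨b * e, by rw [map_mul, map_mul, ← hb]; ring⟩

/-- Finitely many elements of a finite separable extension of a field of fractions lift to a standard
étale algebra. -/
theorem exists_standardEtale {R k L : Type u} [CommRing R] [Field k] [Field L] [Algebra R k] [Algebra k L]
    [Algebra R L] [IsScalarTower R k L] [FiniteDimensional k L] [Algebra.IsSeparable k L]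
    (hρ : ∀ c : k, ∃ a d : R, algebraMap R k d ≠ 0 ∧ c * algebraMap R k d = algebraMap R k a)
    {n : ℕ} (xs : Fin n → L) :
    ∃ (P : StandardEtalePair R) (φ : P.Ring →ₐ[R] L) (ys : Fin n → P.Ring), ∀ i, φ (ys i) = xs i := by
  classical
  set ρ := algebraMap R k with hρdef
  obtain ⟨θ, hθ⟩ := Field.exists_primitive_element k L
  obtain ⟨d, hd, hd'⟩ := exists_common_denominator ρ hρ (minpoly k θ).coeffs
  let θ' : L := algebraMap k L (ρ d) * θ
  have hθi : IsIntegral k θ := IsIntegral.of_finite k θ
  have hθ'i : IsIntegral k θ' := IsIntegral.of_finite k θ'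
  have htop : IntermediateField.adjoin k {θ'} = ⊤ := by
    rw [eq_top_iff, ← hθ, IntermediateField.adjoin_simple_le_iff]
    have h1 : (algebraMap k L (ρ d))⁻¹ * θ' ∈ IntermediateField.adjoin k {θ'} :=
      mul_mem (inv_mem (IntermediateField.algebraMap_mem _ _)) (IntermediateField.mem_adjoin_simple_self k θ')
    rwa [← mul_assoc, inv_mul_cancel₀ ((_root_.map_ne_zero _).mpr hd), one_mul] at h1
  have hdeg : (minpoly k θ').natDegree = (minpoly k θ).natDegree := by
    rw [← IntermediateField.adjoin.finrank hθ'i, ← IntermediateField.adjoin.finrank hθi, htop, hθ]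
  have hmeq : minpoly k θ' = (minpoly k θ).scaleRoots (ρ d) := by
    refine Polynomial.eq_of_monic_of_dvd_of_natDegree_le (minpoly.monic hθ'i)
      (monic_scaleRoots_iff _ |>.mpr (minpoly.monic hθi)) (minpoly.dvd k θ' ?_) ?_ |>.symm
    · exact scaleRoots_aeval_eq_zero (minpoly.aeval k θ)
    · rw [natDegree_scaleRoots, hdeg]
  have hlift : minpoly k θ' ∈ Polynomial.lifts ρ := by
    rw [hmeq, lifts_iff_coeff_lifts]
    intro i
    rw [coeff_scaleRoots]
    rcases lt_trichotomy i (minpoly k θ).natDegree with hi | hi | hi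
    · by_cases h0 : (minpoly k θ).coeff i = 0
      · exact ⟨0, by simp [h0]⟩
      obtain ⟨a, ha⟩ := hd' _ (coeff_mem_coeffs h0)
      refine ⟨a * d ^ ((minpoly k θ).natDegree - i - 1), ?_⟩
      rw [map_mul, map_pow, ← ha, mul_assoc, ← pow_succ']
      congr 2
      omega
    · subst hi
      exact ⟨1, by rw [Nat.sub_self, pow_zero, mul_one, map_one]; exact (minpoly.monic hθi).symm⟩
    · exact ⟨0, by rw [coeff_eq_zero_of_natDegree_lt hi, zero_mul, map_zero]⟩
  obtain ⟨f, hf, -, hfm⟩ := lifts_and_degree_eq_and_monic hlift (minpoly.monic hθ'i)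
  have hpoly : ∀ i, ∃ Q : k[X], aeval θ' Q = xs i := fun i => by
    have h1 : xs i ∈ (IntermediateField.adjoin k {θ'}).toSubalgebra := by rw [htop]; trivial
    rw [IntermediateField.adjoin_simple_toSubalgebra_of_isAlgebraic hθ'i.isAlgebraic,
      Algebra.adjoin_singleton_eq_range_aeval] at h1
    exact h1
  choose Q hQ using hpoly
  obtain ⟨e, he, he'⟩ := exists_common_denominator ρ hρ (Finset.univ.biUnion fun i => (Q i).coeffs)
  have hQl : ∀ i, ∃ Q' : R[X], Q'.map ρ = Q i * Polynomial.C (ρ e) := fun i => by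
    have : Q i * Polynomial.C (ρ e) ∈ Polynomial.lifts ρ := by
      rw [lifts_iff_coeff_lifts]
      intro j
      rw [coeff_mul_C]
      by_cases h0 : (Q i).coeff j = 0
      · exact ⟨0, by simp [h0]⟩
      obtain ⟨a, ha⟩ := he' _ (Finset.mem_biUnion.mpr ⟨i, Finset.mem_univ _, coeff_mem_coeffs h0⟩)
      exact ⟨a, ha.symm⟩
    exact this
  choose Q' hQ' using hQl
  let P : StandardEtalePair R :=
    ⟨f, hfm, Polynomial.C e * derivative f, ⟨Polynomial.C e, 0, 1, by ring⟩⟩
  have haev : ∀ p : R[X], aeval θ' p = aeval θ' (p.map ρ) := fun p => (aeval_map_algebraMap k θ' p).symm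
  have hmap : P.HasMap θ' := by
    refine ⟨by rw [haev, hf, minpoly.aeval], isUnit_iff_ne_zero.mpr ?_⟩
    rw [map_mul, aeval_C, haev, ← derivative_map, hf]
    refine mul_ne_zero ?_ ((Algebra.IsSeparable.isSeparable k θ').aeval_derivative_ne_zero (minpoly.aeval k θ'))
    rw [IsScalarTower.algebraMap_apply R k L]
    exact (_root_.map_ne_zero _).mpr he
  have hu : IsUnit (algebraMap R P.Ring e) := by
    have h := P.hasMap_X.2
    rw [map_mul, aeval_C] at h
    exact isUnit_of_mul_isUnit_left h
  refine ⟨P, P.lift θ' hmap, fun i => aeval P.X (Q' i) * ↑hu.unit⁻¹, fun i => ?_⟩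
  have he0 : algebraMap R L e ≠ 0 := by
    rw [IsScalarTower.algebraMap_apply R k L]
    exact (_root_.map_ne_zero _).mpr he
  rw [map_mul, ← aeval_algHom_apply, P.lift_X, haev, hQ', map_mul, aeval_C, hQ,
    ← IsScalarTower.algebraMap_apply, mul_assoc, ← (P.lift θ' hmap).commutes e, ← map_mul,
    IsUnit.mul_val_inv, map_one, mul_one]

/-- A smooth algebra has étale quasi-sections through finite separable points. -/
theorem exists_etale_algebra {R k L B : Type u} [CommRing R] [Field k] [Field L] [CommRing B] [Algebra R k]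
    [Algebra k L] [Algebra R L] [IsScalarTower R k L] [FiniteDimensional k L] [Algebra.IsSeparable k L]
    (hρ : ∀ c : k, ∃ a d : R, algebraMap R k d ≠ 0 ∧ c * algebraMap R k d = algebraMap R k a)
    (b : R →+* B) (hb : b.IsStandardSmooth) (χ : B →+* L) (hχ : χ.comp b = algebraMap R L) :
    ∃ (C : CommRingCat.{u}) (β : B →+* C) (φ : C →+* L), φ.comp β = χ ∧ (β.comp b).Etale := by
  obtain ⟨n, g, hgb, hg⟩ := hb.exists_etale_mvPolynomial
  obtain ⟨P, φ, ys, hys⟩ := exists_standardEtale hρ fun i : Fin n => χ (g (MvPolynomial.X i))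
  let M := MvPolynomial (Fin n) R
  let α : M →ₐ[R] P.Ring := MvPolynomial.aeval ys
  let : Algebra M B := g.toAlgebra
  let : Algebra M P.Ring := α.toRingHom.toAlgebra
  have : IsScalarTower R M P.Ring := IsScalarTower.of_algHom α
  have : Algebra.Etale M B := hg
  have hcompat : φ.toRingHom.comp (algebraMap M P.Ring) = χ.comp (algebraMap M B) := by
    refine MvPolynomial.ringHom_ext (fun r => ?_) (fun i => ?_)
    · show φ (α (MvPolynomial.C r)) = χ (g (MvPolynomial.C r))
      rw [← MvPolynomial.algebraMap_eq, α.commutes, φ.commutes, ← hχ, RingHom.comp_apply]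
      exact congrArg χ (DFunLike.congr_fun hgb r).symm
    · show φ (α (MvPolynomial.X i)) = χ (g (MvPolynomial.X i))
      rw [MvPolynomial.aeval_X, hys]
  let C := P.Ring ⊗[M] B
  let _ : Algebra M L := (χ.comp g).toAlgebra
  let f₁ : P.Ring →ₐ[M] L := { φ.toRingHom with commutes' := fun r => DFunLike.congr_fun hcompat r }
  let f₂ : B →ₐ[M] L := { χ with commutes' := fun r => rfl }
  refine ⟨CommRingCat.of C, (Algebra.TensorProduct.includeRight : B →ₐ[M] C).toRingHom,
    (Algebra.TensorProduct.lift f₁ f₂ (fun x y => Commute.all (f₁ x) (f₂ y))).toRingHom, ?_, ?_⟩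
  · refine RingHom.ext fun x => ?_
    show Algebra.TensorProduct.lift f₁ f₂ (fun x y => Commute.all (f₁ x) (f₂ y)) (1 ⊗ₜ[M] x) = χ x
    rw [Algebra.TensorProduct.lift_tmul, map_one, one_mul]
    rfl
  · have e : (Algebra.TensorProduct.includeRight : B →ₐ[M] C).toRingHom.comp b = algebraMap R C := by
      refine RingHom.ext fun r => ?_
      show (1 : P.Ring) ⊗ₜ[M] b r = algebraMap R P.Ring r ⊗ₜ[M] (1 : B)
      rw [← hgb, RingHom.comp_apply, IsScalarTower.algebraMap_apply R M P.Ring,
        show g (MvPolynomial.C r) = algebraMap M B (MvPolynomial.C r) from rfl,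
        Algebra.algebraMap_eq_smul_one, Algebra.algebraMap_eq_smul_one, TensorProduct.smul_tmul]
      rfl
    have h : (algebraMap R C).Etale := RingHom.etale_algebraMap.mpr (Algebra.Etale.comp R P.Ring C)
    rw [← e] at h
    exact h

/-- **Quasi-sections.** A smooth morphism has an étale quasi-section through every point whose residue
field is finite separable over that of its image. -/
theorem exists_etale_quasiSection {X S : Scheme.{u}} (f : X ⟶ S) [Smooth f] (s : S) {L : Type u} [Field L]
    [Algebra (S.residueField s) L] [FiniteDimensional (S.residueField s) L]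
    [Algebra.IsSeparable (S.residueField s) L] (c : Spec (CommRingCat.of L) ⟶ X)
    (hc : c ≫ f = Spec.map (CommRingCat.ofHom (algebraMap (S.residueField s) L)) ≫ S.fromSpecResidueField s) :
    ∃ (U : Scheme.{u}) (p : U ⟶ X) (u : Spec (CommRingCat.of L) ⟶ U), u ≫ p = c ∧ Etale (p ≫ f) := by
  let z : Spec (CommRingCat.of L) := IsLocalRing.closedPoint L
  obtain ⟨U, hU, V, hV, hxV, e, hst⟩ := Smooth.exists_isStandardSmooth f (c z)
  have hfx : f (c z) = s := by
    rw [← Scheme.Hom.comp_apply, hc, Scheme.Hom.comp_apply]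
    exact Scheme.fromSpecResidueField_apply s _
  have hsU : s ∈ U := hfx ▸ e hxV
  let ρ : Γ(S, U) ⟶ S.residueField s := S.presheaf.germ U s hsU ≫ S.residue s
  letI : Algebra Γ(S, U) (S.residueField s) := ρ.hom.toAlgebra
  letI : Algebra Γ(S, U) L := ((algebraMap (S.residueField s) L).comp ρ.hom).toAlgebra
  have : IsScalarTower Γ(S, U) (S.residueField s) L := IsScalarTower.of_algebraMap_eq fun _ => rfl
  let χ : Γ(X, V) ⟶ CommRingCat.of L := Spec.preimage (IsOpenImmersion.lift hV.fromSpec c (by
    rintro _ ⟨w, rfl⟩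
    rw [hV.range_fromSpec, Subsingleton.elim (α := PrimeSpectrum L) w z]
    exact hxV))
  have hχ : Spec.map χ ≫ hV.fromSpec = c := by rw [Spec.map_preimage, IsOpenImmersion.lift_fac]
  have hcomm : χ.hom.comp (f.appLE U V e).hom = algebraMap Γ(S, U) L := by
    have key : f.appLE U V e ≫ χ = ρ ≫ CommRingCat.ofHom (algebraMap (S.residueField s) L) := by
      apply Spec.map_injective
      rw [← cancel_mono hU.fromSpec, Spec.map_comp, Category.assoc, hU.SpecMap_appLE_fromSpec f hV e,
        reassoc_of% hχ, hc, Spec.map_comp, Category.assoc]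
      congr 1
      rw [Spec.map_comp, Category.assoc]
      exact (congrArg (Spec.map (S.residue s) ≫ ·) (hU.fromSpecStalk_eq_fromSpecStalk hsU)).symm
    exact congr(($key).hom)
  have hρ : ∀ x : S.residueField s, ∃ a d : Γ(S, U), ρ.hom d ≠ 0 ∧ x * ρ.hom d = ρ.hom a := by
    intro x
    obtain ⟨t, rfl⟩ := S.residue_surjective s x
    letI := TopCat.Presheaf.algebra_section_stalk S.presheaf (⟨s, hsU⟩ : U)
    haveI := hU.isLocalization_stalk ⟨s, hsU⟩
    obtain ⟨⟨a, d, hd⟩, hd'⟩ := IsLocalization.surj (hU.primeIdealOf ⟨s, hsU⟩).asIdeal.primeCompl t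
    refine ⟨a, d, ?_, ?_⟩
    · exact ((IsLocalization.map_units (S.presheaf.stalk s)
        (⟨d, hd⟩ : (hU.primeIdealOf ⟨s, hsU⟩).asIdeal.primeCompl)).map (S.residue s).hom).ne_zero
    · show _ * S.residue s (algebraMap Γ(S, U) (S.presheaf.stalk s) d) = S.residue s (algebraMap Γ(S, U) (S.presheaf.stalk s) a)
      rw [← hd', map_mul]
  obtain ⟨C, β, φ, hφ, het⟩ := exists_etale_algebra (k := S.residueField s) hρ _ hst χ.hom hcomm
  refine ⟨Spec C, Spec.map (CommRingCat.ofHom β) ≫ hV.fromSpec, Spec.map (CommRingCat.ofHom φ), ?_, ?_⟩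
  · rw [← Category.assoc, ← Spec.map_comp, ← hχ]
    congr 2
    exact CommRingCat.hom_ext hφ
  · rw [Category.assoc, ← hU.SpecMap_appLE_fromSpec f hV e, ← Category.assoc, ← Spec.map_comp]
    have : Etale (Spec.map (f.appLE U V e ≫ CommRingCat.ofHom β)) := by
      rw [HasRingHomProperty.Spec_iff (P := @Etale)]
      exact het
    infer_instance

end GrothLib.SmoothSection
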