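import Groth.Agent.Lib.SmoothSection.Coords
import Groth.Agent.Lib.RegSeqLoc.Basic

/-!
# A point of a smooth algebra over a quotient by a regular sequence
-/

universe u

open RingTheory.Sequence TensorProduct

namespace GrothLib.SmoothSection

/-- If `A → C` is surjective with kernel generated by a weakly regular sequence `a` and `B` is
standard smooth over `A`, a kernel of `B → C` is generated near each point by a weakly regular
sequence extending `a` by the relative dimension. -/
theorem exists_coords_quotient (n : ℕ) {A B C : Type u} [CommRing A] [CommRing B] [CommRing C] [Algebra A B]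
    [Algebra.IsStandardSmoothOfRelativeDimension n A B] (a : List A) (ha : IsWeaklyRegular A a)
    (π : A →+* C) (hπ : Function.Surjective π) (hker : RingHom.ker π = Ideal.ofList a)
    (τ : B →+* C) (hτ : τ.comp (algebraMap A B) = π)
    (q : Ideal B) [q.IsPrime] (hq : RingHom.ker τ ≤ q) :
    ∃ h ∉ q, ∃ rs : List B, rs.length = a.length + n ∧ IsWeaklyRegular B rs ∧
      Ideal.ofList rs ≤ RingHom.ker τ ∧ ∀ x ∈ RingHom.ker τ, h * x ∈ Ideal.ofList rs := by
  classical
  let I := Ideal.ofList a
  let _ : Algebra A C := π.toAlgebra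
  let e : (A ⧸ I) ≃ₐ[A] C := AlgEquiv.ofBijective
    (Ideal.Quotient.liftₐ I (Algebra.ofId A C) fun x hx => RingHom.mem_ker.1 (hker.ge hx))
    ⟨RingHom.lift_injective_of_ker_le_ideal _ _ hker.le,
      fun c => (hπ c).elim fun x hx => ⟨Ideal.Quotient.mk I x, hx⟩⟩
  let τA : B →ₐ[A] C := { τ with commutes' := fun x => DFunLike.congr_fun hτ x }
  let B' := (A ⧸ I) ⊗[A] B
  let σ : B' →ₐ[A ⧸ I] A ⧸ I :=
    Algebra.TensorProduct.lift (AlgHom.id (A ⧸ I) (A ⧸ I)) (e.symm.toAlgHom.comp τA) fun _ _ => Commute.all _ _
  let P : B →+* B' := (Algebra.TensorProduct.includeRight : B →ₐ[A] B').toRingHom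
  have hP : Function.Surjective P :=
    Algebra.TensorProduct.includeRight_surjective B Ideal.Quotient.mk_surjective
  have hPker : RingHom.ker P = I.map (algebraMap A B) := by
    ext b
    rw [RingHom.mem_ker, show P b = Algebra.TensorProduct.quotIdealMapEquivQuotTensor B I (Ideal.Quotient.mk _ b) from rfl,
      EmbeddingLike.map_eq_zero_iff, Ideal.Quotient.eq_zero_iff_mem]
  have hσP : ∀ b, σ (P b) = e.symm (τ b) := fun b => by
    show σ ((1 : A ⧸ I) ⊗ₜ[A] b) = _
    exact (Algebra.TensorProduct.lift_tmul _ _ _ _ _).trans (one_mul _)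
  have hkerτ : ∀ b, σ (P b) = 0 ↔ τ b = 0 := fun b => by
    rw [hσP, EmbeddingLike.map_eq_zero_iff]
  have hPq : RingHom.ker P ≤ q := fun b hb => hq ((hkerτ b).1 (by rw [show P b = 0 from hb, map_zero]))
  have := Ideal.map_isPrime_of_surjective hP hPq
  obtain ⟨h', hh', Y', hY', hYσ, hY⟩ := exists_coords (R := A ⧸ I) (B := B') n σ (q.map P) (fun x hx => by
    obtain ⟨b, rfl⟩ := hP x
    exact Ideal.mem_map_of_mem _ (hq ((hkerτ b).1 hx)))
  obtain ⟨h, rfl⟩ := hP h'
  choose Y hYP using fun i => hP (Y' i)
  have hflat : Module.Flat A B := by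
    have : Algebra.IsStandardSmooth A B := Algebra.IsStandardSmoothOfRelativeDimension.isStandardSmooth n
    infer_instance
  let rs := a.map (algebraMap A B) ++ List.ofFn Y
  have hofList : Ideal.ofList rs = I.map (algebraMap A B) ⊔ Ideal.span (Set.range Y) := by
    rw [Ideal.ofList_append, Ideal.map_ofList]
    congr 1
    exact congrArg Ideal.span (Set.ext fun y => by simp [List.mem_ofFn, eq_comm])
  refine ⟨h, fun hh => hh' (Ideal.mem_map_of_mem _ hh), rs, by simp [rs], ?_, ?_, fun x hx => ?_⟩
  · rw [GrothLib.RegSeqLoc.isWeaklyRegular_iff_mem]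
    intro i hi x hx
    have haB := ha.of_flat (S := B)
    rw [GrothLib.RegSeqLoc.isWeaklyRegular_iff_mem] at haB
    rcases lt_or_ge i a.length with hia | hia
    · have hm : i < (a.map (algebraMap A B)).length := by simpa using hia
      rw [List.take_append_of_le_length hm.le] at hx ⊢
      exact haB i hm x (by rwa [List.getElem_append_left hm] at hx)
    · have hm : (a.map (algebraMap A B)).length ≤ i := by simpa using hia
      rw [List.take_append, List.take_of_length_le hm, Ideal.ofList_append, ← Ideal.map_ofList, ← hPker] at hx ⊢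
      rw [List.getElem_append_right hm] at hx
      simp only [List.length_map, List.getElem_ofFn] at hx ⊢
      have hk : i - a.length < n := by simp [rs] at hi; omega
      have hmap : ∀ k, (Ideal.ofList ((List.ofFn Y).take k)).map P = Ideal.ofList ((List.ofFn Y').take k) := fun k => by
        rw [Ideal.map_ofList, List.map_take, List.map_ofFn]
        congr
        exact funext hYP
      have h1 := Ideal.mem_map_of_mem P hx
      rw [Ideal.map_sup, (Ideal.map_eq_bot_iff_le_ker P).2 le_rfl, bot_sup_eq, map_mul, hmap, hYP] at h1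
      rw [GrothLib.RegSeqLoc.isWeaklyRegular_iff_mem] at hY'
      have h2 := hY' (i - a.length) (by simpa using hk) (P x) (by simpa using h1)
      rw [← hmap, ← Ideal.mem_comap, Ideal.comap_map_of_surjective _ hP, ← RingHom.ker_eq_comap_bot] at h2
      rwa [sup_comm]
  · rw [hofList]
    refine sup_le (Ideal.map_le_iff_le_comap.2 fun x hx => ?_) (Ideal.span_le.2 ?_)
    · show τ (algebraMap A B x) = 0
      rw [← RingHom.comp_apply, hτ]
      exact RingHom.mem_ker.1 (hker.ge hx)
    · rintro _ ⟨i, rfl⟩
      exact (hkerτ _).1 (by rw [hYP]; exact hYσ i)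
  · have := hY (P x) ((hkerτ x).2 hx)
    rw [← map_mul, ← funext hYP, Set.range_comp' P Y, ← Ideal.map_span] at this
    rw [hofList]
    have h2 : h * x ∈ Ideal.comap P (Ideal.map P (Ideal.span (Set.range Y))) := this
    rw [Ideal.comap_map_of_surjective _ hP, ← RingHom.ker_eq_comap_bot, hPker] at h2
    rwa [sup_comm]

end GrothLib.SmoothSection
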